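import Cfsg.Agent.Lib.Stellmacher.Defs

/-!
# An involution inverting an element of odd prime order in a quadratic violator

Owner: helper9 (statement of helper6).  If `V` is spanned by the translates under `⟨y⟩` of a subgroup `A` fixed by
the quadratic group `R`, some element of `R` inverts `y`, a subgroup of index at most `2 ^ τ` of `R` lies in a
`y`-invariant group preserving `A` all of whose subgroups satisfy the strict bound, `2 τ` is less than the order of
two modulo `p`, and `R` violates the bound, then `y` acts trivially.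
-/

set_option autoImplicit false

namespace CfsgLib.Stellmacher

open Finset

universe u v

variable {Γ : Type u} [Group Γ] {V : Type v} [AddCommGroup V] [DistribMulAction Γ V]

/-- the vectors fixed by one element -/
def fix1 (y : Γ) : AddSubgroup V := fixed (Subgroup.zpowers y)

theorem mem_fix1 {y : Γ} {v : V} : v ∈ fix1 y ↔ y • v = v := by
  constructor
  · exact fun h => h y (Subgroup.mem_zpowers y)
  · intro h g hg
    have : Subgroup.zpowers y ≤ MulAction.stabilizer Γ v :=
      Subgroup.zpowers_le.2 (MulAction.mem_stabilizer_iff.2 h)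
    exact this hg

theorem pow_smul_fix1 {y : Γ} {v : V} (h : v ∈ fix1 y) (i : ℕ) : y ^ i • v = v :=
  h _ (Subgroup.pow_mem _ (Subgroup.mem_zpowers y) i)

/-- the trace of `y` -/
def trS (y : Γ) (p : ℕ) : V →+ V where
  toFun v := ∑ i ∈ range p, y ^ i • v
  map_zero' := by simp
  map_add' v w := by simp [smul_add, sum_add_distrib]

theorem trS_apply (y : Γ) (p : ℕ) (v : V) : trS y p v = ∑ i ∈ range p, y ^ i • v := rfl

theorem trS_mem_fix1 {y : Γ} {p : ℕ} (hy : ∀ v : V, y ^ p • v = v) (v : V) : trS y p v ∈ fix1 y := by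
  rw [mem_fix1, trS_apply, smul_sum]
  have h := sum_range_succ' (fun i => y ^ i • v) p
  rw [sum_range_succ, hy v, pow_zero, one_smul] at h
  simp only [← mul_smul, ← pow_succ']
  exact (add_right_cancel h).symm

theorem trS_fixed {y : Γ} {p : ℕ} (hV : ∀ v : V, v + v = 0) (hp : p % 2 = 1) {c : V} (hc : c ∈ fix1 y) :
    trS y p c = c := by
  rw [trS_apply, sum_congr rfl fun i _ => pow_smul_fix1 hc i, sum_const, card_range, nsmul_odd hV hp]

theorem trS_smul {y : Γ} {p : ℕ} (hy : ∀ v : V, y ^ p • v = v) (v : V) :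
    trS y p (y • v) = trS y p v := by
  rw [trS_apply, trS_apply]
  have h := sum_range_succ' (fun i => y ^ i • v) p
  rw [sum_range_succ, hy v, pow_zero, one_smul] at h
  simp only [← mul_smul, ← pow_succ]
  exact (add_right_cancel h).symm

section Inverted

variable {y a : Γ} {p : ℕ} (hy : ∀ v : V, y ^ p • v = v)
  (hinv : ∀ v : V, a • y • a • v = y⁻¹ • v) (ha2 : ∀ v : V, a • a • v = v)

include hinv ha2 in
theorem inv_pow_smul (i : ℕ) (v : V) : a • y ^ i • a • v = y⁻¹ ^ i • v := by
  induction i generalizing v with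
  | zero => simp [ha2]
  | succ i ih =>
    rw [pow_succ, mul_smul, pow_succ, mul_smul, ← hinv v, ← ih, ha2]

include hy hinv ha2 in
theorem pow_sub_smul {i : ℕ} (hi : i ≤ p) (v : V) : y ^ (p - i) • v = a • y ^ i • a • v := by
  rw [inv_pow_smul hinv ha2]
  have e : y ^ (p - i) = y⁻¹ ^ i * y ^ p := by
    rw [inv_pow, eq_inv_mul_iff_mul_eq, ← pow_add, Nat.add_sub_cancel' hi]
  rw [e, mul_smul, hy]

include hy hinv ha2 in
/-- a vector fixed by `a` is its trace plus a commutator with `a` -/
theorem trS_decomp (hp : p % 2 = 1) {v : V} (hv : a • v = v) :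
    ∃ u : V, trS y p v = v + (u + a • u) := by
  refine ⟨∑ i ∈ range (p / 2), y ^ (i + 1) • v, ?_⟩
  have hpm : p = (p / 2 + p / 2) + 1 := by omega
  rw [trS_apply]
  conv_lhs => rw [hpm]
  rw [sum_range_succ', pow_zero, one_smul, add_comm, sum_range_add, smul_sum]
  congr 1
  congr 1
  rw [← sum_range_reflect (fun i => y ^ (p / 2 + i + 1) • v) (p / 2)]
  refine sum_congr rfl fun i hi => ?_
  rw [mem_range] at hi
  rw [show p / 2 + (p / 2 - 1 - i) + 1 = p - (i + 1) by omega,
    pow_sub_smul hy hinv ha2 (by omega), hv]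

end Inverted

theorem exists_card_eq_two_pow (hV : ∀ v : V, v + v = 0) [Finite V] (D : AddSubgroup V) :
    ∃ d : ℕ, Nat.card D = 2 ^ d := by
  haveI : Fact (Nat.Prime 2) := ⟨Nat.prime_two⟩
  have h : IsPGroup 2 (Multiplicative D) := fun x => ⟨1, by
    rw [pow_one, pow_two]
    exact Subtype.ext (hV (Multiplicative.toAdd x).1)⟩
  exact (IsPGroup.iff_card (G := Multiplicative D)).1 h

/-- a permutation of order dividing `p` with one fixed point -/
theorem card_mod_eq_one {X : Type*} [Finite X] {p : ℕ} [Fact p.Prime] (σ : Equiv.Perm X) (hσ : σ ^ p = 1)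
    (x₀ : X) (h0 : σ x₀ = x₀) (h : ∀ x, σ x = x → x = x₀) : Nat.card X % p = 1 := by
  classical
  haveI := Fintype.ofFinite X
  have hsupp : σ.supportᶜ = {x₀} := by
    ext x
    simp only [mem_compl, Equiv.Perm.mem_support, not_not, mem_singleton]
    exact ⟨h x, fun hx => hx ▸ h0⟩
  have hm := Equiv.Perm.card_compl_support_modEq (p := p) (n := 1) (σ := σ) (by rw [pow_one, hσ])
  rw [hsupp, card_singleton] at hm
  rw [Nat.card_eq_fintype_card]
  exact Eq.trans hm.symm (Nat.mod_eq_of_lt (Fact.out : p.Prime).one_lt)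

/-- powers of two congruent to one modulo `p` differ by a factor at least the order of two -/
theorem pow_mul_le {p e l d : ℕ} [Fact p.Prime] (hp2 : p ≠ 2)
    (he : ∀ k, 0 < k → k < e → ¬ p ∣ 2 ^ k - 1)
    (hl : 2 ^ l % p = 1) (hd : 2 ^ d % p = 1) (h : 2 ^ l < 2 ^ d) : 2 ^ l * 2 ^ e ≤ 2 ^ d := by
  have hld : l < d := (Nat.pow_lt_pow_iff_right (by norm_num)).1 h
  have hdvd : p ∣ 2 ^ (d - l) - 1 := by
    have h1 : p ∣ 2 ^ d - 2 ^ l :=
      (Nat.modEq_iff_dvd' h.le).1 (hl.trans hd.symm)
    have h2 : 2 ^ d - 2 ^ l = 2 ^ l * (2 ^ (d - l) - 1) := by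
      rw [Nat.mul_sub_one, ← pow_add, Nat.add_sub_cancel' hld.le]
    rw [h2] at h1
    refine ((Fact.out : p.Prime).dvd_mul.1 h1).resolve_left fun hc => hp2 ?_
    exact (Nat.prime_dvd_prime_iff_eq Fact.out Nat.prime_two).1 ((Fact.out : p.Prime).dvd_of_dvd_pow hc)
  have hek : e ≤ d - l := not_lt.1 fun hlt => he _ (by omega) hlt hdvd
  rw [← pow_add]
  exact Nat.pow_le_pow_right (by norm_num) (by omega)

section Main

variable [Finite Γ] [Finite V]

/-- the core lemma -/
theorem core (hV : ∀ v : V, v + v = 0) {A : AddSubgroup V} {R R1 Q : Subgroup Γ} {a y : Γ} {p τ e : ℕ}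
    [Fact p.Prime] (hp2 : p ≠ 2) (hy : ∀ v : V, y ^ p • v = v)
    (he : ∀ k, 0 < k → k < e → ¬ p ∣ 2 ^ k - 1) (hτ : 2 * τ < e) (ha : a ∈ R)
    (hinv : ∀ v : V, a • y • a • v = y⁻¹ • v) (hR : ElemImage V R) (hq : Quad V R) (hAR : A ≤ fixed R)
    (hQA : ∀ g ∈ Q, ∀ v ∈ A, g • v ∈ A) (hQy : Q.map (MulAut.conj y).toMonoidHom = Q)
    (hR1 : R1 ≤ R) (hR1Q : R1 ≤ Q) (hidx : R1.relIndex R ≤ 2 ^ τ)
    (hgen : ⨆ i : ℕ, A.map (DistribSMul.toAddMonoidHom V (y ^ i)) = ⊤)
    (hN : ∀ N ≤ Q, Bound V N)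
    (hviol : (fixed R : AddSubgroup V).index ≤ (actKer Γ V).relIndex R) :
    ∀ v : V, y • v = v := by
  classical
  have hp : p.Prime := Fact.out
  have hodd : p % 2 = 1 := hp.eq_two_or_odd.resolve_left hp2
  have ha2 : ∀ v : V, a • a • v = v := fun v => hR.2 a ha v
  -- the conjugates in `Q`
  have hQc : ∀ i : ℕ, ∀ g ∈ Q, (y ^ i)⁻¹ * g * y ^ i ∈ Q := by
    have h1 : ∀ g ∈ Q, y⁻¹ * g * y ∈ Q := fun g hg => by
      rw [← hQy] at hg
      obtain ⟨h, hh, rfl⟩ := hg
      simpa [mul_assoc] using hh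
    intro i
    induction i with
    | zero => intro g hg; simpa using hg
    | succ i ih =>
      intro g hg
      rw [show (y ^ (i + 1))⁻¹ * g * y ^ (i + 1) = y⁻¹ * ((y ^ i)⁻¹ * g * y ^ i) * y by
        rw [pow_succ]; group]
      exact h1 _ (ih g hg)
  have hQA' : ∀ i : ℕ, ∀ g ∈ Q, ∀ x ∈ A, ∃ x' ∈ A, g • y ^ i • x = y ^ i • x' := fun i g hg x hx =>
    ⟨_, hQA _ (hQc i g hg) x hx, by simp only [← mul_smul]; congr 1; group⟩
  -- the fixed vectors of `a` are fixed by `R`
  have hquad : ∀ u : V, u + a • u ∈ fixed R := fun u r hr => by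
    have h := hq r hr a ha u
    rwa [sub_self_eq_add hV, add_comm (a • u)] at h
  have hC : fix1 (V := V) y ≤ fixed R := by
    intro c hc
    rw [← trS_fixed hV hodd hc]
    have hle : (⊤ : AddSubgroup V) ≤ (fixed R).comap (trS y p) := by
      rw [← hgen]
      refine iSup_le fun i => ?_
      rintro _ ⟨x, hx, rfl⟩
      show trS y p (y ^ i • x) ∈ fixed R
      have hshift : trS y p (y ^ i • x) = trS y p x := by
        clear hx
        induction i with
        | zero => rw [pow_zero, one_smul]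
        | succ i ih => rw [pow_succ', mul_smul, trS_smul hy, ih]
      rw [hshift]
      obtain ⟨u, hu⟩ := trS_decomp hy hinv ha2 hodd (hAR hx a ha)
      rw [hu]
      exact add_mem (hAR hx) (hquad u)
    exact hle (AddSubgroup.mem_top c)
  let δ : V →+ V := DistribSMul.toAddMonoidHom V a + AddMonoidHom.id V
  have hδ : ∀ v, δ v = a • v + v := fun v => rfl
  have hδker : ∀ v, δ v = 0 ↔ a • v = v := fun v => by
    rw [hδ, add_eq_zero_iff_eq_neg, neg_self hV]
  have hfix : ∀ v, a • v = v → v ∈ fixed R := fun v hv => by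
    obtain ⟨u, hu⟩ := trS_decomp hy hinv ha2 hodd hv
    have : v = trS y p v + (u + a • u) := by rw [hu, add_assoc, hV, add_zero]
    rw [this]
    exact add_mem (hC (trS_mem_fix1 hy v)) (hquad u)
  have hfixeq : fixed R = δ.ker :=
    le_antisymm (fun v hv => (hδker v).2 (hv a ha)) fun v hv => hfix v ((hδker v).1 hv)
  have hidxR : (fixed R : AddSubgroup V).index = Nat.card δ.range := by
    rw [hfixeq, AddSubgroup.index_ker]
  -- the kernel of the trace
  let D : AddSubgroup V := (trS y p).ker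
  have hDcard : Nat.card D ≤ Nat.card δ.range * Nat.card δ.range := by
    let f : D →+ δ.range := δ.rangeRestrict.comp D.subtype
    have h1 : Nat.card f.ker * f.ker.index = Nat.card D := f.ker.card_mul_index
    have h2 : f.ker.index ≤ Nat.card δ.range := by
      rw [AddSubgroup.index_ker]
      exact Nat.card_le_card_of_injective Subtype.val Subtype.val_injective
    have hsub : ∀ v : f.ker, ((v : D) : V) ∈ δ.range := fun v => by
      have hv : δ ((v : D) : V) = 0 := congrArg Subtype.val v.2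
      obtain ⟨u, hu⟩ := trS_decomp hy hinv ha2 hodd ((hδker _).1 hv)
      have hD : trS y p ((v : D) : V) = 0 := (v : D).2
      refine ⟨u, ?_⟩
      rw [hδ, add_comm, ← neg_self hV ((v : D) : V)]
      exact eq_neg_of_add_eq_zero_right (hu ▸ hD)
    have h3 : Nat.card f.ker ≤ Nat.card δ.range :=
      Nat.card_le_card_of_injective (fun v => (⟨_, hsub v⟩ : δ.range)) fun v w h =>
        Subtype.ext (Subtype.ext (congrArg (fun z : δ.range => (z : V)) h))
    rw [← h1]
    exact Nat.mul_le_mul h3 h2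
  by_cases hD1 : D = ⊥
  · intro v
    have hv : v + trS y p v ∈ D := by
      show trS y p (v + trS y p v) = 0
      rw [map_add, trS_fixed hV hodd (trS_mem_fix1 hy v), hV]
    rw [hD1, AddSubgroup.mem_bot, add_eq_zero_iff_eq_neg, neg_self hV] at hv
    have := mem_fix1.1 (trS_mem_fix1 hy v)
    rwa [← hv] at this
  exfalso
  have hDone : 1 < Nat.card D := AddSubgroup.one_lt_card_iff_ne_bot D |>.2 hD1
  have hDy : ∀ v ∈ D, y • v ∈ D := fun v hv => (trS_smul hy v).trans hv
  have hDmod : Nat.card D % p = 1 := by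
    let g : D → D := fun v => ⟨y • (v : V), hDy _ v.2⟩
    have hg : ∀ n v, ((g^[n]) v : V) = y ^ n • (v : V) := fun n v => by
      induction n with
      | zero => simp
      | succ n ih => rw [Function.iterate_succ_apply', pow_succ', mul_smul, ← ih]
    let σ : Equiv.Perm D := Equiv.ofBijective g (Finite.injective_iff_bijective.1
      fun v w h => Subtype.ext (smul_left_cancel y (congrArg Subtype.val h)))
    have hσ : σ ^ p = 1 := by
      refine Equiv.ext fun v => Subtype.ext ?_
      rw [Equiv.Perm.coe_pow]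
      show ((g^[p]) v : V) = (v : V)
      rw [hg, hy]
    refine card_mod_eq_one σ hσ 0 (Subtype.ext (smul_zero y)) fun v hv => Subtype.ext ?_
    have hv' : (v : V) ∈ fix1 y := mem_fix1.2 (congrArg Subtype.val hv)
    exact (trS_fixed hV hodd hv').symm.trans v.2
  -- the group of elements of `Q` acting as the identity on `fix1 y` and modulo it
  let K : Subgroup Γ :=
    { carrier := {g | (∀ v : V, g • v + v ∈ fix1 y) ∧ ∀ c ∈ fix1 (V := V) y, g • c = c}
      one_mem' := ⟨fun v => by rw [one_smul, hV]; exact zero_mem _, fun c _ => one_smul Γ c⟩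
      mul_mem' := fun {g h} hg hh => ⟨fun v => by
        have e : (g * h) • v + v = g • (h • v + v) + (g • v + v) := by
          rw [smul_add, mul_smul, add_assoc, ← add_assoc (g • v), hV, zero_add]
        rw [e, hg.2 _ (hh.1 v)]
        exact add_mem (hh.1 v) (hg.1 v), fun c hc => by rw [mul_smul, hh.2 c hc, hg.2 c hc]⟩
      inv_mem' := fun {g} hg => ⟨fun v => by
        have h := hg.1 (g⁻¹ • v)
        rwa [smul_inv_smul, add_comm] at h, fun c hc => by rw [inv_smul_eq_iff, hg.2 c hc]⟩ }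
  let N : Subgroup Γ := Q ⊓ K
  have hNel : ElemImage V N := by
    have key : ∀ g ∈ N, ∀ h ∈ N, ∀ v : V, g • h • v = v + (h • v + v) + (g • v + v) := by
      intro g hg h hh v
      have e : h • v = v + (h • v + v) := by rw [add_left_comm, hV, add_zero]
      conv_lhs => rw [e, smul_add, hg.2.2 _ (hh.2.1 v)]
      rw [show v + (h • v + v) + (g • v + v) = g • v + (h • v + v) + (v + v) by abel, hV v, add_zero]
    refine ⟨fun g hg h hh v => ?_, fun g hg v => ?_⟩
    · rw [key g hg h hh, key h hh g hg, add_right_comm]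
    · rw [key g hg g hg, add_assoc, hV, add_zero]
  have hR1N : R1 ≤ N := fun r hr => ⟨hR1Q hr, fun v => by
    have hS : (⊤ : AddSubgroup V) ≤ (fix1 y).comap (DistribSMul.toAddMonoidHom V r + AddMonoidHom.id V) := by
      rw [← hgen]
      refine iSup_le fun i => ?_
      rintro _ ⟨x, hx, rfl⟩
      show r • y ^ i • x + y ^ i • x ∈ fix1 y
      obtain ⟨x', hx', e⟩ := hQA' i r (hR1Q hr) x hx
      rw [e, ← smul_add]
      set z := x' + x with hz
      have hzA : z ∈ A := add_mem hx' hx
      have hfz : a • y ^ i • z = y ^ i • z := by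
        rw [hz, smul_add (y ^ i), ← e]
        have h := hq a ha r (hR1 hr) (y ^ i • x)
        rwa [sub_self_eq_add hV] at h
      rcases Nat.lt_or_ge 0 (i % p) with hpos | hzero
      · have hza : a • z = z := hAR hzA a ha
        have h2i : y ^ (2 * i) • z = z := by
          have := inv_pow_smul hinv ha2 i z
          rw [hza, hfz, inv_pow, eq_inv_smul_iff, ← mul_smul, ← pow_add, ← two_mul] at this
          exact this
        have hd1 := MulAction.pow_smul_eq_iff_period_dvd.1 h2i
        have hd2 := MulAction.pow_smul_eq_iff_period_dvd.1 (hy z)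
        have hcop : Nat.Coprime (2 * i) p := by
          refine Nat.Coprime.symm ((Nat.Prime.coprime_iff_not_dvd hp).2 fun hd => ?_)
          rcases hp.dvd_mul.1 hd with h | h
          · exact hp2 ((Nat.prime_dvd_prime_iff_eq hp Nat.prime_two).1 h)
          · rw [Nat.mod_eq_zero_of_dvd h] at hpos; omega
        have h1 : MulAction.period y z = 1 :=
          Nat.dvd_one.1 (hcop ▸ Nat.dvd_gcd hd1 hd2)
        have hzy : z ∈ fix1 y := mem_fix1.2 (by
          have := MulAction.pow_period_smul y z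
          rwa [h1, pow_one] at this)
        rw [pow_smul_fix1 hzy]
        exact hzy
      · have hyx : y ^ i • x = x := by
          obtain ⟨k, hk⟩ := Nat.dvd_of_mod_eq_zero (Nat.le_zero.1 hzero)
          rw [hk, pow_mul]
          clear hk
          induction k with
          | zero => rw [pow_zero, one_smul]
          | succ k ih => rw [pow_succ, mul_smul, hy, ih]
        have : y ^ i • z = 0 := by
          rw [hz, smul_add, ← e, hyx, hAR hx r (hR1 hr), hV]
        rw [this]
        exact zero_mem _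
    exact hS (AddSubgroup.mem_top v), fun c hc => hC hc r (hR1 hr)⟩
  let ρ := MulAction.toPermHom Γ V
  have hρ : ∀ g v, ρ g v = g • v := fun g v => rfl
  let N' : Subgroup (Equiv.Perm V) := N.map ρ
  have hn : (actKer Γ V).relIndex N = Nat.card N' := relIndex_actKer N
  have hnlt : Nat.card N' < Nat.card D := by
    by_cases hNk : N ≤ actKer Γ V
    · rw [← hn, Subgroup.relIndex_eq_one.2 hNk]; exact hDone
    · rw [← hn]
      refine lt_of_lt_of_le (hN N inf_le_left hNel hNk) ?_
      have hle : fix1 (V := V) y ≤ fixed N := fun c hc g hg => hg.2.2 c hc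
      refine le_trans (Nat.le_of_dvd ?_ (AddSubgroup.index_dvd_of_le hle)) ?_
      · exact Nat.pos_of_ne_zero AddSubgroup.index_ne_zero_of_finite
      · have hsurj : Function.Surjective
            ((QuotientAddGroup.mk' (fix1 y)).comp D.subtype) := fun q => by
          induction q using QuotientAddGroup.induction_on with
          | H v =>
            refine ⟨⟨v + trS y p v, ?_⟩, ?_⟩
            · show trS y p (v + trS y p v) = 0
              rw [map_add, trS_fixed hV hodd (trS_mem_fix1 hy v), hV]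
            · show ((v + trS y p v : V) : V ⧸ fix1 y) = v
              rw [QuotientAddGroup.eq]
              rw [neg_self hV, add_right_comm, hV, zero_add]; exact trS_mem_fix1 hy v
        exact Nat.card_le_card_of_surjective _ hsurj
  -- the conjugation by `y`
  have hyN : ∀ f ∈ N', ρ y * f * (ρ y)⁻¹ ∈ N' := by
    rintro _ ⟨g, hg, rfl⟩
    refine ⟨y * g * y⁻¹, ⟨?_, fun v => ?_, fun c hc => ?_⟩, by simp⟩
    · rw [← hQy]; exact ⟨g, hg.1, by simp⟩
    · have h := hg.2.1 (y⁻¹ • v)
      have e : (y * g * y⁻¹) • v + v = y • (g • y⁻¹ • v + y⁻¹ • v) := by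
        rw [smul_add, smul_inv_smul, mul_smul, mul_smul]
      rw [e, mem_fix1.1 h]
      exact h
    · have hyc : y⁻¹ • c = c := inv_smul_eq_iff.2 (mem_fix1.1 hc).symm
      rw [mul_smul, mul_smul, hyc, hg.2.2 c hc, mem_fix1.1 hc]
  have hfree : ∀ f ∈ N', Commute (ρ y) f → f = 1 := by
    rintro _ ⟨g, hg, rfl⟩ hcomm
    refine Equiv.ext fun v => ?_
    show g • v = v
    let φ : V →+ V := DistribSMul.toAddMonoidHom V g + AddMonoidHom.id V
    have hφy : ∀ w, φ (y • w) = φ w := fun w => by
      have h : y • g • w = g • y • w := Equiv.ext_iff.1 hcomm.eq w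
      show g • y • w + y • w = g • w + w
      rw [← h, ← smul_add, mem_fix1.1 (hg.2.1 w)]
    have hφi : ∀ i : ℕ, φ (y ^ i • v) = φ v := fun i => by
      induction i with
      | zero => rw [pow_zero, one_smul]
      | succ i ih => rw [pow_succ', mul_smul, hφy, ih]
    have h0 : φ (trS y p v) = 0 := by
      show g • trS y p v + trS y p v = 0
      rw [hg.2.2 _ (trS_mem_fix1 hy v), hV]
    rw [trS_apply, map_sum, sum_congr rfl fun i _ => hφi i, sum_const, card_range, nsmul_odd hV hodd] at h0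
    change g • v + v = 0 at h0
    rwa [add_eq_zero_iff_eq_neg, neg_self hV] at h0
  have hρp : ρ y ^ p = 1 := by rw [← map_pow]; exact Equiv.ext fun v => hy v
  have hNmod : Nat.card N' % p = 1 := by
    let g : N' → N' := fun f => ⟨ρ y * (f : Equiv.Perm V) * (ρ y)⁻¹, hyN _ f.2⟩
    have hg : ∀ n f, ((g^[n]) f : Equiv.Perm V) = ρ y ^ n * (f : Equiv.Perm V) * (ρ y ^ n)⁻¹ := fun n f => by
      induction n with
      | zero => simp
      | succ n ih =>
        rw [Function.iterate_succ_apply']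
        show ρ y * ((g^[n]) f : Equiv.Perm V) * (ρ y)⁻¹ = _
        rw [ih, pow_succ', mul_inv_rev]
        simp only [mul_assoc]
    let σ : Equiv.Perm N' := Equiv.ofBijective g (Finite.injective_iff_bijective.1
      fun f h e => Subtype.ext (mul_left_cancel (mul_right_cancel (congrArg Subtype.val e))))
    have hσ : σ ^ p = 1 := by
      refine Equiv.ext fun f => Subtype.ext ?_
      rw [Equiv.Perm.coe_pow]
      show ((g^[p]) f : Equiv.Perm V) = (f : Equiv.Perm V)
      rw [hg, hρp]; simp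
    refine card_mod_eq_one σ hσ 1 (Subtype.ext ?_) fun f hf => Subtype.ext (hfree _ f.2 ?_)
    · show ρ y * 1 * (ρ y)⁻¹ = 1
      simp
    · have h : ρ y * (f : Equiv.Perm V) * (ρ y)⁻¹ = (f : Equiv.Perm V) := congrArg Subtype.val hf
      exact mul_inv_eq_iff_eq_mul.1 h
  obtain ⟨d, hd⟩ := exists_card_eq_two_pow hV D
  obtain ⟨l, hl⟩ : ∃ l, Nat.card N' = 2 ^ l := by
    haveI : Fact (Nat.Prime 2) := ⟨Nat.prime_two⟩
    refine IsPGroup.iff_card.1 fun f => ⟨1, Subtype.ext (Equiv.ext fun v => ?_)⟩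
    obtain ⟨g, hg, hgf⟩ := f.2
    rw [pow_one, pow_two]
    show (f : Equiv.Perm V) ((f : Equiv.Perm V) v) = v
    rw [← hgf]
    exact hNel.2 g hg v
  have hbig : 2 ^ l * 2 ^ e ≤ Nat.card D := by
    rw [hd]
    exact pow_mul_le hp2 he (hl ▸ hNmod) (hd ▸ hDmod) (hl ▸ hd ▸ hnlt)
  -- the image of `R1` is at most the square root of the image of `N`
  let R1' := R1.map ρ
  have hsq : Nat.card R1' * Nat.card R1' ≤ Nat.card N' := by
    rw [← Nat.card_prod]
    have hmem : ∀ f ∈ R1', f ∈ N' := fun f hf => Subgroup.map_mono hR1N hf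
    have hca : ∀ f ∈ R1', Commute (ρ a) f := by
      rintro _ ⟨g, hg, rfl⟩
      exact Equiv.ext fun v => hR.1 a ha g (hR1 hg) v
    have hconj : ρ y * ρ a * (ρ y)⁻¹ = ρ y * ρ y * ρ a := by
      refine Equiv.ext fun v => ?_
      show y • a • (ρ y)⁻¹ v = y • y • a • v
      rw [← map_inv, hρ, ← hinv v, ha2]
    refine Nat.card_le_card_of_injective
      (fun fg : R1' × R1' => (⟨(fg.1 : Equiv.Perm V) * (ρ y * (fg.2 : Equiv.Perm V) * (ρ y)⁻¹),
        mul_mem (hmem _ fg.1.2) (hyN _ (hmem _ fg.2.2))⟩ : N')) ?_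
    rintro ⟨f, g⟩ ⟨f', g'⟩ heq
    have he' : (f : Equiv.Perm V) * (ρ y * (g : Equiv.Perm V) * (ρ y)⁻¹) =
        (f' : Equiv.Perm V) * (ρ y * (g' : Equiv.Perm V) * (ρ y)⁻¹) := congrArg Subtype.val heq
    have hh : (f' : Equiv.Perm V)⁻¹ * f = ρ y * ((g' : Equiv.Perm V) * (g : Equiv.Perm V)⁻¹) * (ρ y)⁻¹ := by
      rw [inv_mul_eq_iff_eq_mul, eq_comm]
      calc _ = (f' : Equiv.Perm V) * (ρ y * g' * (ρ y)⁻¹) * (ρ y * g * (ρ y)⁻¹)⁻¹ := by group
        _ = _ := by rw [← he']; group
    have h1 : Commute (ρ a) ((f' : Equiv.Perm V)⁻¹ * f) :=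
      ((hca _ f'.2).inv_right).mul_right (hca _ f.2)
    have h2 : Commute (ρ y * ρ a * (ρ y)⁻¹) ((f' : Equiv.Perm V)⁻¹ * f) := by
      rw [hh]
      exact ((Commute.mul_right (hca _ g'.2) (hca _ g.2).inv_right)).map (MulAut.conj (ρ y)).toMonoidHom
    rw [hconj] at h2
    have h3 : Commute (ρ y * ρ y) ((f' : Equiv.Perm V)⁻¹ * f) := by
      have := h2.mul_left h1.inv_left
      rwa [mul_inv_cancel_right] at this
    have h4 : Commute (ρ y) ((f' : Equiv.Perm V)⁻¹ * f) := by
      have h := h3.pow_left ((p + 1) / 2)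
      rwa [← sq, ← pow_mul, show 2 * ((p + 1) / 2) = p + 1 by omega, pow_succ, hρp, one_mul] at h
    have hone := hfree _ (mul_mem (inv_mem (hmem _ f'.2)) (hmem _ f.2)) h4
    have hff : f = f' := Subtype.ext (inv_mul_eq_one.1 hone).symm
    subst hff
    have hgg : g = g' := Subtype.ext (mul_left_cancel (mul_right_cancel (mul_left_cancel he')))
    rw [hgg]
  have hRle : (actKer Γ V).relIndex R ≤ Nat.card R1' * 2 ^ τ := by
    rw [relIndex_actKer]
    have hle : R1.map ρ ≤ R.map ρ := Subgroup.map_mono hR1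
    rw [← Subgroup.card_mul_index (Subgroup.subgroupOf (R1.map ρ) (R.map ρ)),
      Nat.card_congr (Subgroup.subgroupOfEquivOfLe hle).toEquiv]
    refine Nat.mul_le_mul_left _ (le_trans ?_ hidx)
    have hs : Function.Surjective (ρ.subgroupMap R) := ρ.subgroupMap_surjective R
    have hdvd := Subgroup.index_map_dvd (H := R1.subgroupOf R) hs
    have heq : (R1.subgroupOf R).map (ρ.subgroupMap R) = (R1.map ρ).subgroupOf (R.map ρ) := by
      ext ⟨f, hf⟩
      constructor
      · rintro ⟨⟨g, hg⟩, hg1, he⟩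
        exact ⟨g, hg1, congrArg Subtype.val he⟩
      · rintro ⟨g, hg1, he⟩
        exact ⟨⟨g, hR1 hg1⟩, hg1, Subtype.ext he⟩
    rw [heq] at hdvd
    exact Nat.le_of_dvd (Nat.pos_of_ne_zero Subgroup.index_ne_zero_of_finite) hdvd
  -- arithmetic
  rw [hidxR] at hviol
  have hfin : Nat.card D < 2 ^ l * 2 ^ e := by
    have e1 : Nat.card D ≤ (Nat.card R1' * Nat.card R1') * (2 ^ τ * 2 ^ τ) := by
      calc Nat.card D ≤ Nat.card δ.range * Nat.card δ.range := hDcard
        _ ≤ (Nat.card R1' * 2 ^ τ) * (Nat.card R1' * 2 ^ τ) :=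
          Nat.mul_le_mul (hviol.trans hRle) (hviol.trans hRle)
        _ = _ := by ring
    have e2 : 2 ^ τ * 2 ^ τ < 2 ^ e := by
      rw [← pow_add]; exact Nat.pow_lt_pow_right (by norm_num) (by omega)
    calc Nat.card D ≤ 2 ^ l * (2 ^ τ * 2 ^ τ) := e1.trans (Nat.mul_le_mul_right _ (hl ▸ hsq))
      _ < _ := Nat.mul_lt_mul_of_pos_left e2 (pow_pos (by norm_num) l)
  exact absurd hbig (not_le.2 hfin)

end Main

end CfsgLib.Stellmacher
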