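import Mathlib

/-!
# Elementary abelian images on modules of characteristic two: definitions

Owner: helper9 (interface of helper6). A finite group `Γ` acts on a finite abelian group `V` of exponent two; the
action need not be faithful, orders of images are indices of the kernel `actKer`.
-/

set_option autoImplicit false

namespace CfsgLib.Stellmacher

universe u v

variable {Γ : Type u} [Group Γ] {V : Type v} [AddCommGroup V] [DistribMulAction Γ V]

/-- the vectors fixed by a subgroup -/
def fixed (H : Subgroup Γ) : AddSubgroup V where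
  carrier := {v | ∀ h ∈ H, h • v = v}
  zero_mem' h _ := smul_zero h
  add_mem' hx hy h hh := by rw [smul_add, hx h hh, hy h hh]
  neg_mem' hx h hh := by rw [smul_neg, hx h hh]

theorem mem_fixed {H : Subgroup Γ} {v : V} : v ∈ fixed H ↔ ∀ h ∈ H, h • v = v := Iff.rfl

theorem fixed_anti {H K : Subgroup Γ} (h : H ≤ K) : (fixed K : AddSubgroup V) ≤ fixed H :=
  fun _ hv g hg => hv g (h hg)

/-- the elements fixing an additive subgroup pointwise -/
def fixing (A : AddSubgroup V) : Subgroup Γ where
  carrier := {g | ∀ v ∈ A, g • v = v}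
  one_mem' v _ := one_smul Γ v
  mul_mem' hx hy v hv := by rw [mul_smul, hy v hv, hx v hv]
  inv_mem' hx v hv := by rw [inv_smul_eq_iff, hx v hv]

theorem mem_fixing {A : AddSubgroup V} {g : Γ} : g ∈ fixing A ↔ ∀ v ∈ A, g • v = v := Iff.rfl

variable (Γ V) in
/-- the kernel of the action -/
def actKer : Subgroup Γ := (MulAction.toPermHom Γ V).ker

theorem mem_actKer {g : Γ} : g ∈ actKer Γ V ↔ ∀ v : V, g • v = v := by
  rw [actKer, MonoidHom.mem_ker]
  exact ⟨fun h v => Equiv.ext_iff.1 h v, fun h => Equiv.ext h⟩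

theorem actKer_le_fixing (A : AddSubgroup V) : actKer Γ V ≤ fixing A :=
  fun _ hg v _ => mem_actKer.1 hg v

theorem relIndex_actKer (H : Subgroup Γ) :
    (actKer Γ V).relIndex H = Nat.card (H.map (MulAction.toPermHom Γ V)) :=
  Subgroup.relIndex_ker (K := H) _

theorem fixed_eq_top_iff {H : Subgroup Γ} : (fixed H : AddSubgroup V) = ⊤ ↔ H ≤ actKer Γ V := by
  constructor
  · exact fun h g hg => mem_actKer.2 fun v => (h ▸ AddSubgroup.mem_top v : v ∈ fixed H) g hg
  · exact fun h => top_le_iff.1 fun v _ g hg => mem_actKer.1 (h hg) v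

variable (V) in
/-- the image of `H` on `V` is elementary abelian of exponent two -/
def ElemImage (H : Subgroup Γ) : Prop :=
  (∀ a ∈ H, ∀ b ∈ H, ∀ v : V, a • b • v = b • a • v) ∧ ∀ a ∈ H, ∀ v : V, a • a • v = v

theorem ElemImage.mono {H K : Subgroup Γ} (hK : ElemImage V K) (h : H ≤ K) : ElemImage V H :=
  ⟨fun a ha b hb => hK.1 a (h ha) b (h hb), fun a ha => hK.2 a (h ha)⟩

variable (V) in
/-- `R` acts quadratically on `V` -/
def Quad (R : Subgroup Γ) : Prop :=
  ∀ r ∈ R, ∀ s ∈ R, ∀ v : V, r • (s • v - v) = s • v - v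

variable (V) in
/-- a nontrivial elementary abelian image is smaller than the index of its fixed vectors -/
def Bound (H : Subgroup Γ) : Prop :=
  ElemImage V H → ¬ H ≤ actKer Γ V → (actKer Γ V).relIndex H < (fixed H : AddSubgroup V).index

section Two

variable (hV : ∀ v : V, v + v = 0)
include hV

theorem neg_self (v : V) : -v = v := neg_eq_of_add_eq_zero_left (hV v)

theorem sub_self_eq_add (v w : V) : v - w = v + w := by rw [sub_eq_add_neg, neg_self hV]

theorem nsmul_odd {n : ℕ} (hn : n % 2 = 1) (v : V) : n • v = v := by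
  obtain ⟨k, rfl⟩ : ∃ k, n = 2 * k + 1 := ⟨n / 2, by omega⟩
  rw [add_nsmul, mul_nsmul, two_nsmul, hV, nsmul_zero, zero_add, one_nsmul]

end Two

end CfsgLib.Stellmacher
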