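import Cfsg.Agent.Lib.Stellmacher.Defs

/-!
# Minimal violators act quadratically, and the bound is additive over generating subgroups

Owner: helper9 (statements of helper6).
-/

set_option autoImplicit false

namespace CfsgLib.Stellmacher

universe u v

variable {Γ : Type u} [Group Γ] {V : Type v} [AddCommGroup V] [DistribMulAction Γ V]

/-- index of the kernel in a chain of subgroups -/
theorem relIndex_actKer_mul {D R : Subgroup Γ} (hD : D ≤ R) (hK : actKer Γ V ⊓ R ≤ D) :
    (actKer Γ V).relIndex R = (actKer Γ V).relIndex D * D.relIndex R := by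
  rw [← Subgroup.inf_relIndex_right (actKer Γ V) R, ← Subgroup.relIndex_mul_relIndex _ _ _ hK hD]
  congr 1
  rw [← Subgroup.inf_relIndex_right (actKer Γ V) D, ← Subgroup.inf_relIndex_right (actKer Γ V ⊓ R) D,
    inf_assoc, inf_eq_right.2 hD]

/-- an element of a sum of commutators of `x` is the image of `x` under a map whose square is zero -/
theorem eq_zero_of_mem_commutator (hV : ∀ v : V, v + v = 0) {R : Subgroup Γ} (hR : ElemImage V R) {x c : V}
    (hc : c ∈ fixed R) (hx : x + c ∈ AddSubgroup.closure (Set.range fun s : R => (s : Γ) • x + x)) :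
    x ∈ fixed R := by
  let n : R → AddMonoid.End V := fun s => DistribSMul.toAddMonoidHom V (s : Γ) + AddMonoidHom.id V
  let L : AddSubgroup (AddMonoid.End V) := AddSubgroup.closure (Set.range n)
  have hn : ∀ (s : R) v, n s v = (s : Γ) • v + v := fun s v => rfl
  obtain ⟨N, hN, hNx⟩ : ∃ N ∈ L, N x = x + c := by
    have h : Set.range (fun s : R => (s : Γ) • x + x) =
        (AddMonoidHom.eval x : AddMonoid.End V →+ V) '' Set.range n := by
      rw [← Set.range_comp]; rfl
    rw [h, ← AddMonoidHom.map_closure] at hx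
    exact hx
  have hnn : ∀ (s : R) v, n s (n s v) = 0 := fun s v => by
    rw [hn, hn, smul_add, hR.2 _ s.2, add_comm v ((s : Γ) • v), hV]
  have hcn : ∀ (s t : R) v, n s (n t v) = n t (n s v) := fun s t v => by
    simp only [hn, smul_add, hR.1 _ s.2 _ t.2]
    abel
  have hcomm : ∀ M ∈ L, ∀ (s : R) v, n s (M v) = M (n s v) := by
    intro M hM
    induction hM using AddSubgroup.closure_induction with
    | mem M hM => obtain ⟨t, rfl⟩ := hM; exact fun s v => hcn s t v
    | zero => exact fun s v => map_zero _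
    | add A B _ _ hA hB =>
      intro s v
      show n s (A v + B v) = A (n s v) + B (n s v)
      rw [map_add, hA, hB]
    | neg A _ hA =>
      intro s v
      show n s (-(A v)) = -(A (n s v))
      rw [map_neg, hA]
  have hsq : ∀ M ∈ L, ∀ v, M (M v) = 0 := by
    intro M hM
    induction hM using AddSubgroup.closure_induction with
    | mem M hM => obtain ⟨t, rfl⟩ := hM; exact hnn t
    | zero => exact fun v => rfl
    | add A B hA' hB' hA hB =>
      intro v
      have hAB : A (B v) = B (A v) := by
        clear hA hB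
        induction hA' using AddSubgroup.closure_induction generalizing v with
        | mem A hA => obtain ⟨t, rfl⟩ := hA; exact hcomm B hB' t v
        | zero => exact (map_zero _).symm
        | add A A' _ _ h h' =>
          show A (B v) + A' (B v) = B (A v + A' v)
          rw [map_add, h, h']
        | neg A _ h =>
          show -(A (B v)) = B (-(A v))
          rw [map_neg, h]
      show A (A v + B v) + B (A v + B v) = 0
      rw [map_add, map_add, hA, hB, hAB, zero_add, add_zero, hV]
    | neg A _ hA =>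
      intro v
      show -(A (-(A v))) = 0
      rw [map_neg, neg_neg, hA]
  have hNc : N c = 0 := by
    clear hNx
    induction hN using AddSubgroup.closure_induction with
    | mem M hM => obtain ⟨t, rfl⟩ := hM; rw [hn, hc _ t.2, hV]
    | zero => rfl
    | add A B _ _ hA hB => show A c + B c = 0; rw [hA, hB, add_zero]
    | neg A _ hA => show -(A c) = 0; rw [hA, neg_zero]
  have h := hsq N hN x
  rw [hNx, map_add, hNc, add_zero, hNx, add_eq_zero_iff_eq_neg, neg_self hV] at h
  rw [h]; exact hc

variable [Finite Γ] [Finite V]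

/-- replacement: a minimal violator is quadratic -/
theorem quad_of_minimal (hV : ∀ v : V, v + v = 0) {R : Subgroup Γ} (hR : ElemImage V R)
    (hne : ¬ R ≤ actKer Γ V) (hv : (fixed R : AddSubgroup V).index ≤ (actKer Γ V).relIndex R)
    (hmin : ∀ D ≤ R, (actKer Γ V).relIndex D < (actKer Γ V).relIndex R → Bound V D) : Quad V R := by
  classical
  intro r hr s hs x
  set F : AddSubgroup V := fixed R with hF
  set C : AddSubgroup V := AddSubgroup.closure (Set.range fun s : R => (s : Γ) • x + x) with hC
  set M : AddSubgroup V := C ⊔ F with hM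
  let D : Subgroup Γ :=
    { carrier := {g | g ∈ R ∧ g • x + x ∈ F}
      one_mem' := ⟨one_mem R, by rw [one_smul, hV]; exact zero_mem _⟩
      mul_mem' := fun {g h} hg hh => ⟨mul_mem hg.1 hh.1, by
        have e : (g * h) • x + x = g • (h • x + x) + (g • x + x) := by
          rw [smul_add, mul_smul, add_assoc, ← add_assoc (g • x), hV, zero_add]
        rw [e, hh.2 g hg.1]
        exact add_mem hh.2 hg.2⟩
      inv_mem' := fun {g} hg => ⟨inv_mem hg.1, by
        have e : g⁻¹ • x = g • x := inv_smul_eq_iff.2 (hR.2 g hg.1 x).symm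
        rw [e]; exact hg.2⟩ }
  have hDR : D ≤ R := fun g hg => hg.1
  have hKD : actKer Γ V ⊓ R ≤ D := fun g hg => ⟨hg.2, by
    rw [mem_actKer.1 hg.1 x, hV]; exact zero_mem _⟩
  -- `D` fixes `M`
  have hDM : M ≤ fixed D := by
    refine sup_le ((AddSubgroup.closure_le _).2 ?_) (fixed_anti hDR)
    rintro _ ⟨t, rfl⟩ g hg
    have e : g • x = x + (g • x + x) := by rw [add_left_comm, hV, add_zero]
    show g • ((t : Γ) • x + x) = (t : Γ) • x + x
    rw [smul_add, hR.1 g hg.1 t t.2, e, smul_add, hg.2 t t.2]
    rw [show (t : Γ) • x + (g • x + x) + (x + (g • x + x)) =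
      (t : Γ) • x + x + ((g • x + x) + (g • x + x)) by abel, hV, add_zero]
  -- the cosets of `D` embed in `M / F`
  have hDidx : D.relIndex R ≤ F.relIndex M := by
    have hmem : ∀ t : R, (t : Γ) • x + x ∈ M := fun t =>
      le_sup_left (a := C) (AddSubgroup.subset_closure ⟨t, rfl⟩)
    let f : R → M ⧸ F.addSubgroupOf M := fun t =>
      QuotientAddGroup.mk ⟨(t : Γ) • x + x, hmem t⟩
    refine Nat.card_le_card_of_injective (α := R ⧸ D.subgroupOf R) (β := M ⧸ F.addSubgroupOf M)
      (fun q => f q.out) ?_
    intro q q' h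
    have h' := QuotientAddGroup.eq.1 h
    rw [AddSubgroup.mem_addSubgroupOf] at h'
    change -((q.out : Γ) • x + x) + ((q'.out : Γ) • x + x) ∈ F at h'
    rw [neg_self hV, show (q.out : Γ) • x + x + ((q'.out : Γ) • x + x) =
      (q.out : Γ) • x + (q'.out : Γ) • x + (x + x) by abel, hV, add_zero] at h'
    rw [← QuotientGroup.out_eq' q, ← QuotientGroup.out_eq' q', QuotientGroup.eq]
    refine ⟨mul_mem (inv_mem q.out.2) q'.out.2, ?_⟩
    show ((q.out : Γ)⁻¹ * (q'.out : Γ)) • x + x ∈ F
    have e : ((q.out : Γ)⁻¹ * (q'.out : Γ)) • x + x =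
        (q.out : Γ) • ((q.out : Γ) • x + (q'.out : Γ) • x) := by
      rw [smul_add, hR.2 _ q.out.2, mul_smul, inv_smul_eq_iff.2 (hR.2 _ q.out.2 _).symm, add_comm]
    rw [e, h' _ q.out.2]
    exact h'
  by_cases hfull : D.relIndex R = 1
  · have hxR : ∀ t ∈ R, t • x + x ∈ F := fun t ht => (Subgroup.relIndex_eq_one.1 hfull ht).2
    rw [sub_self_eq_add hV]
    exact hxR s hs r hr
  exfalso
  have hmul := relIndex_actKer_mul hDR hKD
  have hlt : (actKer Γ V).relIndex D < (actKer Γ V).relIndex R := by
    rw [hmul]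
    exact lt_mul_of_one_lt_right (Nat.pos_of_ne_zero (Subgroup.index_ne_zero_of_finite))
      (lt_of_le_of_ne (Nat.pos_of_ne_zero (Subgroup.index_ne_zero_of_finite)) (Ne.symm hfull))
  have hFM : F.relIndex M * M.index = F.index := AddSubgroup.relIndex_mul_index le_sup_right
  have hMle : (fixed D : AddSubgroup V).index ≤ M.index :=
    Nat.le_of_dvd (Nat.pos_of_ne_zero AddSubgroup.index_ne_zero_of_finite) (AddSubgroup.index_dvd_of_le hDM)
  by_cases hDk : D ≤ actKer Γ V
  · rw [hmul, Subgroup.relIndex_eq_one.2 hDk, one_mul] at hv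
    have hM1 : M.index = 1 := by
      have hpos : 0 < M.index := Nat.pos_of_ne_zero AddSubgroup.index_ne_zero_of_finite
      have hpos' : 0 < F.relIndex M := Nat.pos_of_ne_zero AddSubgroup.index_ne_zero_of_finite
      have h : F.relIndex M * M.index ≤ F.relIndex M * 1 := by
        rw [hFM, mul_one]; exact hv.trans hDidx
      have := Nat.le_of_mul_le_mul_left h hpos'
      omega
    rw [AddSubgroup.index_eq_one] at hM1
    have hxM : x ∈ M := hM1 ▸ AddSubgroup.mem_top x
    obtain ⟨m, hm, c, hc, hmc⟩ := AddSubgroup.mem_sup.1 hxM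
    have hxc : x + c = m := by rw [← hmc, add_assoc, hV, add_zero]
    have hxF : x ∈ F := eq_zero_of_mem_commutator hV hR hc (by rw [hxc]; exact hm)
    refine hne (fixed_eq_top_iff.1 (top_le_iff.1 ?_))
    rw [← hM1]
    refine sup_le ((AddSubgroup.closure_le _).2 ?_) le_rfl
    rintro _ ⟨t, rfl⟩
    show (t : Γ) • x + x ∈ F
    rw [hxF _ t.2, hV]
    exact zero_mem _
  · have hb := lt_of_lt_of_le (hmin D hDR hlt (hR.mono hDR) hDk) hMle
    have h1 : (actKer Γ V).relIndex R < F.index := by
      rw [hmul, ← hFM, mul_comm (F.relIndex M)]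
      exact lt_of_le_of_lt (Nat.mul_le_mul_left _ hDidx)
        (Nat.mul_lt_mul_of_pos_right hb (Nat.pos_of_ne_zero AddSubgroup.index_ne_zero_of_finite))
    exact absurd hv (not_le.2 h1)

/-- the bound is additive over generating subgroups -/
theorem bound_of_translates {Q : Subgroup Γ} {ι : Sort*} (A : ι → AddSubgroup V) (hgen : ⨆ i, A i = ⊤)
    (hA : ∀ i, ∀ H ≤ Q, (∀ a ∈ H, ∀ b ∈ H, ∀ v ∈ A i, a • b • v = b • a • v) →
      (∀ a ∈ H, ∀ v ∈ A i, a • a • v = v) → ¬ H ≤ fixing (A i) →
      (fixing (A i)).relIndex H < (fixed H : AddSubgroup V).relIndex (A i)) :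
    ∀ N ≤ Q, Bound V N := by
  suffices ∀ (n : ℕ) (N : Subgroup Γ), (actKer Γ V).relIndex N = n → N ≤ Q → Bound V N from
    fun N hN => this _ N rfl hN
  intro n
  induction n using Nat.strong_induction_on with
  | _ n ih =>
    intro N hn hNQ hel hne
    obtain ⟨i, hi⟩ : ∃ i, ¬ N ≤ fixing (A i) := by
      by_contra h
      push Not at h
      refine hne (fixed_eq_top_iff.1 (top_le_iff.1 ?_))
      rw [← hgen]
      exact iSup_le fun i v hv g hg => h i hg v hv
    have hlt := hA i N hNQ (fun a ha b hb v _ => hel.1 a ha b hb v) (fun a ha v _ => hel.2 a ha v) hi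
    let K : Subgroup Γ := N ⊓ fixing (A i)
    have hmul := relIndex_actKer_mul (V := V) (D := K) (R := N) inf_le_left
      (le_inf inf_le_right (inf_le_left.trans (actKer_le_fixing _)))
    have hKi : K.relIndex N = (fixing (A i)).relIndex N := by
      rw [show K = fixing (A i) ⊓ N from inf_comm _ _, Subgroup.inf_relIndex_right]
    have h1 : (fixed N : AddSubgroup V).relIndex (A i) ≤ (fixed N : AddSubgroup V).relIndex (fixed K) :=
      AddSubgroup.relIndex_le_of_le_right (fun v hv g hg => hg.2 v hv)
        AddSubgroup.index_ne_zero_of_finite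
    have h2 : (fixed N : AddSubgroup V).relIndex (fixed K) * (fixed K : AddSubgroup V).index =
        (fixed N : AddSubgroup V).index := AddSubgroup.relIndex_mul_index (fixed_anti inf_le_left)
    have hpos : 0 < (fixed K : AddSubgroup V).index := Nat.pos_of_ne_zero AddSubgroup.index_ne_zero_of_finite
    by_cases hK : K ≤ actKer Γ V
    · rw [hmul, Subgroup.relIndex_eq_one.2 hK, one_mul, hKi, ← h2]
      exact lt_of_lt_of_le (hlt.trans_le h1) (Nat.le_mul_of_pos_right _ hpos)
    · have hKlt : (actKer Γ V).relIndex K < n := by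
        rw [← hn, hmul]
        refine lt_mul_of_one_lt_right (Nat.pos_of_ne_zero (Subgroup.index_ne_zero_of_finite))
          (lt_of_le_of_ne (Nat.pos_of_ne_zero (Subgroup.index_ne_zero_of_finite)) (Ne.symm ?_))
        rw [hKi, Ne, Subgroup.relIndex_eq_one]
        exact hi
      have hb := ih _ hKlt K rfl (inf_le_left.trans hNQ) (hel.mono inf_le_left) hK
      rw [hmul, hKi, ← h2, mul_comm ((fixed N : AddSubgroup V).relIndex (fixed K))]
      exact Nat.mul_lt_mul'' hb (hlt.trans_le h1)

end CfsgLib.Stellmacher
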